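import Cfsg.Agent.H0.MultM
import Cfsg.Agent.H0.ML34.D
set_option maxRecDepth 100000
set_option Elab.async false
set_option linter.unusedSectionVars false
namespace H0.QL34
open H0 BN 
noncomputable def n14 : Net := (Net.cons (nat_lit 16) (nat_lit 0x123c) (Net.cons (nat_lit 8) (nat_lit 0x20052) (Net.cons (nat_lit 4) (nat_lit 0x20c0304) (Net.cons (nat_lit 2) (nat_lit 0x302200) (Net.cons (nat_lit 1) (nat_lit 0x10011440) (Net.cons (nat_lit 2) (nat_lit 0x2000) (Net.cons (nat_lit 4) (nat_lit 0x20c0808) (Net.cons (nat_lit 8) (nat_lit 0x9e) (Net.cons (nat_lit 16) (nat_lit 0x123c) Net.nil)))))))))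
noncomputable def n15 : Net := (Net.cons (nat_lit 16) (nat_lit 0x3040) (Net.cons (nat_lit 8) (nat_lit 0x300084) (Net.cons (nat_lit 4) (nat_lit 0x60400) (Net.cons (nat_lit 2) (nat_lit 0x20302) (Net.cons (nat_lit 1) (nat_lit 0x10004) (Net.cons (nat_lit 2) (nat_lit 0x20002) (Net.cons (nat_lit 4) (nat_lit 0x400) (Net.cons (nat_lit 8) (nat_lit 0x200004) (Net.cons (nat_lit 16) (nat_lit 0x3040) Net.nil)))))))))
noncomputable def n16 : Net := (Net.cons (nat_lit 16) (nat_lit 0xa4a8) (Net.cons (nat_lit 8) (nat_lit 0xa80002) (Net.cons (nat_lit 4) (nat_lit 0x80b0704) (Net.cons (nat_lit 2) (nat_lit 0x20030110) (Net.cons (nat_lit 1) (nat_lit 0x1404) (Net.cons (nat_lit 2) (nat_lit 0x2) (Net.cons (nat_lit 4) (nat_lit 0x8080604) (Net.cons (nat_lit 8) (nat_lit 0x2c0008) (Net.cons (nat_lit 16) (nat_lit 0xa4a8) Net.nil)))))))))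
noncomputable def n17 : Net := (Net.cons (nat_lit 16) (nat_lit 0x4bc) (Net.cons (nat_lit 8) (nat_lit 0x24005e) (Net.cons (nat_lit 4) (nat_lit 0x4080402) (Net.cons (nat_lit 2) (nat_lit 0x20221230) (Net.cons (nat_lit 1) (nat_lit 0x40155140) (Net.cons (nat_lit 2) (nat_lit 0x20200020) (Net.cons (nat_lit 4) (nat_lit 0x4080402) (Net.cons (nat_lit 8) (nat_lit 0x240016) (Net.cons (nat_lit 16) (nat_lit 0x4bc) Net.nil)))))))))
noncomputable def n18 : Net := (Net.cons (nat_lit 16) (nat_lit 0x488) (Net.cons (nat_lit 8) (nat_lit 0x140010) (Net.cons (nat_lit 4) (nat_lit 0x4080400) (Net.cons (nat_lit 2) (nat_lit 0x10032312) (Net.cons (nat_lit 1) (nat_lit 0x500) (Net.cons (nat_lit 4) (nat_lit 0x4080400) (Net.cons (nat_lit 8) (nat_lit 0x140010) (Net.cons (nat_lit 16) (nat_lit 0x488) Net.nil))))))))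
noncomputable def n19 : Net := (Net.cons (nat_lit 16) (nat_lit 0x4050) (Net.cons (nat_lit 8) (nat_lit 0x20088) (Net.cons (nat_lit 4) (nat_lit 0x40c060a) (Net.cons (nat_lit 2) (nat_lit 0x2013000) (Net.cons (nat_lit 1) (nat_lit 0x4400110) (Net.cons (nat_lit 2) (nat_lit 0x2000000) (Net.cons (nat_lit 4) (nat_lit 0x40c0602) (Net.cons (nat_lit 8) (nat_lit 0x20088) (Net.cons (nat_lit 16) (nat_lit 0x4050) Net.nil)))))))))
noncomputable def n20 : Net := (Net.cons (nat_lit 16) (nat_lit 0x23a) (Net.cons (nat_lit 8) (nat_lit 0x240050) (Net.cons (nat_lit 4) (nat_lit 0x2000608) (Net.cons (nat_lit 2) (nat_lit 0x2001212) (Net.cons (nat_lit 1) (nat_lit 0x4000104) (Net.cons (nat_lit 2) (nat_lit 0x2000002) (Net.cons (nat_lit 4) (nat_lit 0x200) (Net.cons (nat_lit 8) (nat_lit 0x240000) (Net.cons (nat_lit 16) (nat_lit 0x220) Net.nil)))))))))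
noncomputable def n21 : Net := (Net.cons (nat_lit 16) (nat_lit 0x7c40) (Net.cons (nat_lit 8) (nat_lit 0x440002) (Net.cons (nat_lit 4) (nat_lit 0x405080d) (Net.cons (nat_lit 2) (nat_lit 0x10010230) (Net.cons (nat_lit 1) (nat_lit 0x14010110) (Net.cons (nat_lit 4) (nat_lit 0x80c) (Net.cons (nat_lit 8) (nat_lit 0x440080) (Net.cons (nat_lit 16) (nat_lit 0x7c40) Net.nil))))))))
noncomputable def n22 : Net := (Net.cons (nat_lit 16) (nat_lit 0x7302) (Net.cons (nat_lit 8) (nat_lit 0x5a0004) (Net.cons (nat_lit 4) (nat_lit 0x3030000) (Net.cons (nat_lit 2) (nat_lit 0x2300003) (Net.cons (nat_lit 1) (nat_lit 0x11400441) (Net.cons (nat_lit 2) (nat_lit 0x200000) (Net.cons (nat_lit 4) (nat_lit 0x20000) (Net.cons (nat_lit 8) (nat_lit 0x480088) (Net.cons (nat_lit 16) (nat_lit 0x7302) Net.nil)))))))))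
noncomputable def n23 : Net := (Net.cons (nat_lit 16) (nat_lit 0x21b3) (Net.cons (nat_lit 8) (nat_lit 0x8005c) (Net.cons (nat_lit 4) (nat_lit 0x20c0c01) (Net.cons (nat_lit 2) (nat_lit 0x2100000) (Net.cons (nat_lit 1) (nat_lit 0x1110405) (Net.cons (nat_lit 2) (nat_lit 0x20000) (Net.cons (nat_lit 4) (nat_lit 0x20c0000) (Net.cons (nat_lit 8) (nat_lit 0x80050) (Net.cons (nat_lit 16) (nat_lit 0x21b0) Net.nil)))))))))
noncomputable def nl2 : List Net := [n14, n15, n16, n17, n18, n19, n20, n21, n22, n23]
theorem nl2_ok : allL (Net.ok (nat_lit 32)) nl2 = true := by decide +kernel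
noncomputable def nl : List Net := [H0.ML34.n0, H0.ML34.n1, H0.ML34.n2, H0.ML34.n3, H0.ML34.n4, H0.ML34.n5, H0.ML34.n6, H0.ML34.n7, H0.ML34.n8, H0.ML34.n9, H0.ML34.n10, H0.ML34.n11, H0.ML34.n12, H0.ML34.n13, n14, n15, n16, n17, n18, n19, n20, n21, n22, n23]
theorem nl_ok : allL (Net.ok (nat_lit 32)) nl = true := allL_append H0.ML34.nl_ok nl2_ok
noncomputable def R : Rep := mkRep (nat_lit 5) (nat_lit 32) nl (by decide +kernel) nl_ok
def defs : List (List ℕ) := [[3, 7, 9, 9, 11], [3, 5, 7, 9, 7, 11, 11], [5, 5, 3, 9, 11, 11], [3, 3, 3], [3, 3], [3, 5, 5, 7, 9, 8, 7, 11], [3, 5, 3, 7, 9, 9], [1, 1, 1, 0, 9, 9, 7, 11, 11], [1, 0, 1, 3, 5, 11, 11], [1, 0, 3, 3, 3, 7, 9, 9, 11]]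
def ch2 : List Model.Lev := [(1, [[14], [15], [18], [19]], 16), (2, [[14, 17, 19], [15, 16, 18, 19]], 4)]
noncomputable def tL2 : TC.WTr := (.node (.node (.node (.node (.node (.leaf [0, 0] 0 0 false) (.leaf [5, 1] 0 0 false)) (.node (.leaf [3, 2] 0 0 false) (.leaf [6, 5] 0 0 false))) (.node (.node (.leaf [2, 1] 0 0 false) (.leaf [5, 5] 0 0 false)) (.node (.leaf [4, 2] 0 0 false) (.leaf [7, 5] 0 0 false)))) (.node (.node (.node (.leaf [1, 1] 0 0 false) (.leaf [5, 3] 0 0 false)) (.node (.leaf [4, 0] 0 0 false) (.leaf [7, 1] 0 0 false))) (.node (.node (.leaf [3, 0] 0 0 false) (.leaf [6, 1, 2] 0 0 false)) (.leaf [4, 4] 0 0 false)))) (.node (.node (.node (.node (.leaf [1, 0] 0 0 false) (.leaf [5, 2] 0 0 false)) (.node (.leaf [3, 3] 0 0 false) (.leaf [7, 0, 2] 0 0 false))) (.node (.node (.leaf [2, 2] 0 0 false) (.leaf [6, 0, 3] 0 0 false)) (.leaf [4, 3] 0 0 false))) (.node (.node (.node (.leaf [2, 0] 0 0 false) (.leaf [5, 4] 0 0 false)) (.node (.leaf [4, 1] 0 0 false) (.leaf [7, 4] 0 0 false))) (.node (.node (.leaf [3, 1] 0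 0 false) (.leaf [6, 4] 0 0 false)) (.leaf [5, 0] 0 0 false)))))
noncomputable def tR2 : TC.WTr := (.node (.node (.node (.node (.node (.leaf [4, 5] 0 0 false) (.leaf [1, 5] 0 0 false)) (.node (.leaf [2, 3, 4] 0 0 false) (.leaf [1, 2, 4, 6] 0 0 false))) (.node (.node (.leaf [1, 2, 4] 0 0 false) (.leaf [] 0 0 false)) (.node (.leaf [2, 4] 0 0 false) (.leaf [0, 1, 2, 5, 7] 0 0 false)))) (.node (.node (.node (.leaf [] 0 0 false) (.leaf [3, 5] 0 0 false)) (.node (.leaf [0, 4] 0 0 false) (.leaf [0, 2, 7] 0 0 false))) (.node (.node (.leaf [0, 3, 5] 0 0 false) (.leaf [0, 1, 2, 3, 4, 5, 6] 0 0 false)) (.leaf [] 0 0 false)))) (.node (.node (.node (.node (.leaf [0, 1, 4] 0 0 false) (.leaf [2, 5] 0 0 false)) (.node (.leaf [4] 0 0 false) (.leaf [0, 2, 5, 7] 0 0 false))) (.node (.node (.leaf [4] 0 0 false) (.leaf [1, 2, 6] 0 0 false)) (.leaf [3, 4] 0 0 false))) (.node (.node (.node (.leaf [0, 2, 5] 0 0 false) (.leaf [4, 5] 0 0 false)) (.node (.leaf [1, 4] 0 0 false) (.leaf [0, 2, 4, 5, 7] 0 0 false))) (.node (.node (.leaf [1, 3, 5] 0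 0 false) (.leaf [0, 3, 4, 5, 6] 0 0 false)) (.leaf [0, 5] 0 0 false)))))
noncomputable def C2 : Tail.Cfg := ⟨nat_lit 2, nat_lit 1, nat_lit 6, nat_lit 29, nat_lit 27, tL2.get, tR2.get⟩
noncomputable def tests2 : List (List ℕ × ℕ × Bool × ℕ) := [([4], 10, false, (nat_lit 0x1000000000000000000000000001f80000000000000000000000000000000000000000000000000000000000000000000)), ([4], 11, false, (nat_lit 0x100000000000000000000fc00000000000000000000000000000000000000000000000000000000000000000000000000)), ([4], 12, false, (nat_lit 0x100000000000007e000000000000000000000000000000000000000000000000000000000000000000000000000000000)), ([4], 13, false, (nat_lit 0x10000003f0000000000000000000000000000000000000000000000000000000000000000000000000000000000000000)), ([5], 15, false, (nat_lit 0x4000000000000000000000000000000000fc00000000000000000000000000000000000000000000000000000000000000000000000000000000000000000000000000000)), ([5], 16, false, (nat_lit 0x4000000000000000000000000007e000000000000000000000000000000000000000000000000000000000000000000000000000000000000000000000000000000000000)),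 ([5], 17, false, (nat_lit 0x400000000000000000003f0000000000000000000000000000000000000000000000000000000000000000000000000000000000000000000000000000000000000000000)), ([5], 18, false, (nat_lit 0x40000000000001f80000000000000000000000000000000000000000000000000000000000000000000000000000000000000000000000000000000000000000000000000)), ([5], 19, false, (nat_lit 0x4000000fc00000000000000000000000000000000000000000000000000000000000000000000000000000000000000000000000000000000000000000000000000000000)), ([2], 5, false, (nat_lit 0x1000000000000000000000000000000000000000000000200000000000000000000000000000000000)), ([3], 9, false, (nat_lit 0x8000000000000000000000000200000000000000000000000000000000000000000000000000000000000000)), ([1], 1, false, (nat_lit 0xfc0000000000000000007e000000000000000000000000000000000000000000000000000000000010000003f0000000)), ([0], 0, false, (nat_lit 0x200000000000000000000000000000000040000000000000000000000000000000000000000000000000000000000000000040)), ([2], 2, false, (nat_lit 0x40000000000000000000200000000000000000000000000000000000000000000002000000000001000000000000000)),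 ([3], 2, false, (nat_lit 0x1000000000000000000000000001000000000000000000000000000000000000000000000000000000000000400000000000000000000000000000001000000000000000)), ([5], 5, false, (nat_lit 0x7e00000000000010000000000000000000000000000000000000000000000000000000000000000000000000000000200000000000000000000000000000000000)), ([2], 3, false, (nat_lit 0x3f0000000000000000001f800000000000000000000000000000000000000000000004000000000000000000000000000000020000000000000fc00000000000000000000)), ([3], 6, false, (nat_lit 0x3f000000000000fc0000000000000000000000000000000000000000000000000000040000200000000000000000001f80000000000000000000000000000000000000000)), ([3], 7, false, (nat_lit 0x3f000000000000fc000000000000000000000000000000000000000000000020000000000020000000000000fc00000000000000000000000000000000000000000000000)), ([3], 8, false, (nat_lit 0xfc00001f800000100000000000000000020000007e000000000000000000000000000000000000000000000000000000)), ([1], 0, false, (nat_lit 0x400000000000000000001000000000000040000000000000000000200000040000000000000000000000000000000000000000000000000000000000010000040)),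 ([3], 3, false, (nat_lit 0x400000000000000400001f8000000000000000000000000000000000000000000000040000000000040000000000001000000000000000000008000000000000000000000)), ([24, 24], 6, true, (nat_lit 0x7e000000000000000000000000001000000000000000000000000000000000000001f80000000000000000007e000000000000000000000000000000000000001f800003f000000000000fc0000000000000)), ([21, 21], 6, true, (nat_lit 0x3f000000100000000000004000000000000000000000000100000001000003f0000000000000000000080000000000000000000400001f800003f000000000000fc0000000000001)), ([23, 23], 6, true, (nat_lit 0xfc0000000000000000007e000007e00001f80000000000000000007e00001fc00001f8000000000000000000fc00001f8000000000000000000fc000000000000000000000000000000000000003f)), ([23, 24, 23, 24], 6, true, (nat_lit 0x7e00000fc000000000000000000be00001fa00000fc00001f800007e000000000004f000001f800003f000017a00000fc00001f800003f000007e00000fc00001f800003f000007e00000fc00001f800003f)), ([22, 22], 6, true, (nat_lit 0x1f800000000000bd00001f800000fc00003f000003f000007e00003f400003f000000100000fc00000fc00001f800003f000007e00000fc0000200000040000007e000010000001f800003f)),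 ([26, 26], 7, true, (nat_lit 0x1f8000000000000000000000000000000000000003f0000000000000000001f8000000000000000000fc000000000007e0000000000000000000000000000000000000000000001f8000000000007e0000004000000000003f)), ([27, 27], 7, true, (nat_lit 0xfc0000000000000000000000000000000000000000000007e000007e000000000003f0000000000007e00001fc000000000003f000000000000fc00000000000000000000000000000001f8000000000007e0000000000000000003f)), ([25, 25], 7, true, (nat_lit 0x3f000000000000000000000000000000007f0000000000000000003f8000000000007e00001000000000000080000000000000000000000000000000000000000000000200000000000008000000000000000000040)), ([28, 28], 7, true, (nat_lit 0x7e00000000000000000000000000000000000000000000000000007f000007e000000000003f000007e000007e00001f8000000000003f000007e000000000000000000000000000000000000001f800003f000007e00000fc00001f800003f)), ([26, 28, 26, 28], 7, true, (nat_lit 0x7e000000000001f800000000000000000000000000000000000000be000007e000000000007e000007f00000fc00003f0000000000007e00000fc00000fc00000000000000000000000000000003f000007e00000fc000010000003f000007e))]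
noncomputable def rows2 : List (ℕ × List (ℕ × ℕ) × ℕ) := [(0, [(1, 1)], (nat_lit 0x0)), (1, [(4, 1)], (nat_lit 0x0)), (2, [(2, 1)], (nat_lit 0x0)), (3, [(5, 1)], (nat_lit 0x0)), (4, [(4, 1), (6, 42), (7, 42)], (nat_lit 0x7c100004058a80a016541d6b037009335880000000000000)), (5, [(0, 1)], (nat_lit 0x0)), (6, [(5, 1), (6, 1)], (nat_lit 0x0)), (7, [(5, 1), (7, 1)], (nat_lit 0x0)), (8, [(4, 1), (6, 42), (7, 43)], (nat_lit 0x54b80b035540d6b83500baf5800000000000000)), (9, [(3, 1)], (nat_lit 0x0)), (10, [(6, 22), (7, 20)], (nat_lit 0xab683600aaff2d680a03654b7c0000000000000)), (11, [(6, 20), (7, 22)], (nat_lit 0xab683600aac029680a03654b7c0000000000000)), (12, [], (nat_lit 0x40000000000000)), (13, [], (nat_lit 0x1000000000000000)), (14, [(4, 62), (6, 44), (7, 42)], (nat_lit 0x5aa02a0165405aa01602aa95040000000000000)), (15, [(6, 42), (7, 44)], (nat_lit 0x5aa02a01654156a01602bad5040000000000000)), (16, [(6, 42), (7, 4)], (nat_lit 0x5aa02a02354155e68a02ae15040000000000000)), (17, [(7, 26)], (nat_lit 0xd0000336b3000340000000000000000)),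 (18, [(6, 62), (7, 26)], (nat_lit 0xd000ff46b3000340000000000000000)), (19, [(7, 52)], (nat_lit 0x1a000026ce6000680000000000000000)), (20, [(5, 62), (6, 22), (7, 58)], (nat_lit 0xab683603daff2e219703620b7c0000000000000))]
noncomputable def YS2 : List (List (ℕ × ℕ) × ℕ × ℕ) := [([(3, 63), (6, 1)], 4, (nat_lit 0x80002091c83c0247828bc00401c09e18000000000079f)), ([(3, 63), (7, 1)], 4, (nat_lit 0x13c03c00478403c00403c89e9800000000003de))]
def FS2 : List (List (ℕ × ℕ)) := [[(5, 1)], [(0, 1)], [(2, 1)], [(9, 1)], [(1, 1)], [(3, 1)]]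
def av2 (x s : ℕ) : ℕ := ([[0, 1, 0, 0, 63, 63], [0, 0, 1, 0, 0, 0], [1, 0, 0, 0, 63, 0], [0, 0, 0, 1, 63, 0], [0, 0, 0, 0, 62, 0], [0, 0, 0, 0, 0, 62]].getD x []).getD s 0
def ch3 : List Model.Lev := [(0, [[22], [23]], 9)]
noncomputable def tL3 : TC.WTr := (.node (.node (.leaf [0, 0, 0] 0 0 false) (.leaf [1, 1, 1] 0 0 false)) (.leaf [1, 0] 0 0 false))
noncomputable def tR3 : TC.WTr := (.node (.node (.leaf [] 0 0 false) (.leaf [] 0 0 false)) (.leaf [0, 1] 0 0 false))
noncomputable def C3 : Tail.Cfg := ⟨nat_lit 3, nat_lit 2, nat_lit 2, nat_lit 3, nat_lit 19, tL3.get, tR3.get⟩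
noncomputable def tests3 : List (List ℕ × ℕ × Bool × ℕ) := [([1], 0, false, (nat_lit 0x18001b))]
noncomputable def rows3 : List (ℕ × List (ℕ × ℕ) × ℕ) := [(0, [(0, 1)], (nat_lit 0x0)), (1, [(2, 1)], (nat_lit 0x0)), (2, [(1, 1)], (nat_lit 0x0))]
noncomputable def YS3 : List (List (ℕ × ℕ) × ℕ × ℕ) := [([(1, 1)], 3, (nat_lit 0x8))]
def FS3 : List (List (ℕ × ℕ)) := [[(0, 1)], [(2, 1)]]
def av3 (x s : ℕ) : ℕ := ([[1, 0], [0, 1]].getD x []).getD s 0
theorem c0 : Model.fixP R [1] [[14, 17, 19], [15, 16, 18, 19]] = true := by decide +kernel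
theorem c1 : Model.growP R [[14, 17, 19], [15, 16, 18, 19]] [0, 1] 2 4 = true := by decide +kernel
theorem c2 : Model.fixP R [] [[14], [15], [18], [19]] = true := by decide +kernel
theorem c3 : Model.growP R [[14], [15], [18], [19]] [0, 1, 2, 3] 1 16 = true := by decide +kernel
theorem c4 : rulesB R [3, 2, 1, 0] (fun i => sh 14 (C2.L i)) (fun i => sh 14 (C2.R i)) 0 29 = true := by decide +kernel
theorem c5 : allL (Tail.chkT C2 (nat_lit 66) (nat_lit 63)) ((tests2.drop 0).take 32) = true := by decide +kernel
theorem c6 : allL (Tail.rowChk C2 (nat_lit 66) (nat_lit 63) (nat_lit 6) (tests2.map fun T => T.2.2.2) (FS2 ++ YS2.map fun Y => Y.1)) ((rows2.drop 0).take 21) = true := by decide +kernel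
theorem c7 : Tail.finChk C2 (nat_lit 66) (nat_lit 63) (nat_lit 6) (nat_lit 2) (C2.p ^ 5) av2 (tests2.map fun T => T.2.2.2) FS2 YS2 rows2 = true := by decide +kernel
theorem c8 : Model.fixP R [] [[22], [23]] = true := by decide +kernel
theorem c9 : Model.growP R [[22], [23]] [0, 1, 0, 1] 0 9 = true := by decide +kernel
theorem c10 : rulesB R [3, 2, 1, 0] (fun i => sh 22 (C3.L i)) (fun i => sh 22 (C3.R i)) 0 3 = true := by decide +kernel
theorem c11 : allL (Tail.chkT C3 (nat_lit 12) (nat_lit 26)) ((tests3.drop 0).take 1) = true := by decide +kernel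
theorem c12 : allL (Tail.rowChk C3 (nat_lit 12) (nat_lit 26) (nat_lit 5) (tests3.map fun T => T.2.2.2) (FS3 ++ YS3.map fun Y => Y.1)) ((rows3.drop 0).take 3) = true := by decide +kernel
theorem c13 : Tail.finChk C3 (nat_lit 12) (nat_lit 26) (nat_lit 5) (nat_lit 3) (C3.p ^ 2) av3 (tests3.map fun T => T.2.2.2) FS3 YS3 rows3 = true := by decide +kernel
theorem c14 : defsChk R defs 14 = true := by decide +kernel
end H0.QL34
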